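import Groth.Agent.FibFlat.Core

/-!
Replacing an algebra of finite type by a finitely presented one with the same fibre.
-/

universe u

open AlgebraicGeometry CategoryTheory CategoryTheory.Limits IsLocalRing

namespace Groth.Agent.FibFlat

/-- The map to a stalk of the spectrum. -/
noncomputable def tS (R : CommRingCat.{u}) (p : Spec R) : R →+* (Spec R).presheaf.stalk p :=
  ((Scheme.ΓSpecIso R).inv ≫ (Spec R).presheaf.germ ⊤ p trivial).hom

theorem tS_def (R : CommRingCat.{u}) (p : Spec R) :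
    tS R p = ((Scheme.ΓSpecIso R).inv ≫ (Spec R).presheaf.germ ⊤ p trivial).hom := rfl

theorem tS_natural {R S : CommRingCat.{u}} (φ : R ⟶ S) (q : Spec S) (p : Spec R) (h : Spec.map φ q = p) :
    (sm (Spec.map φ) q p h).comp (tS R p) = (tS S q).comp φ.hom := by
  subst h
  rw [sm_self]
  show ((Scheme.ΓSpecIso R).inv ≫ (Spec R).presheaf.germ ⊤ _ trivial ≫ (Spec.map φ).stalkMap q).hom =
    (φ ≫ (Scheme.ΓSpecIso S).inv ≫ (Spec S).presheaf.germ ⊤ q trivial).hom
  rw [Scheme.ΓSpecIso_inv_naturality_assoc]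
  exact congrArg (fun k => ((Scheme.ΓSpecIso R).inv ≫ k).hom) ((Spec.map φ).germ_stalkMap ⊤ q trivial)

theorem tS_eq (R : CommRingCat.{u}) (p : PrimeSpectrum R) :
    tS R p = (Spec.stalkIso R p).inv.hom.comp (algebraMap R (Localization.AtPrime p.asIdeal)) := by
  show ((Scheme.ΓSpecIso R).inv ≫ (Spec R).presheaf.germ ⊤ p trivial).hom = _
  exact (congrArg CommRingCat.Hom.hom (Spec.algebraMap_stalkIso_inv (R := R) (x := p))).symm

theorem tS_surj (R : CommRingCat.{u}) (p : PrimeSpectrum R) (z : (Spec R).presheaf.stalk p) :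
    ∃ a u, IsUnit (tS R p u) ∧ z * tS R p u = tS R p a := by
  let e := (Spec.stalkIso R p).commRingCatIsoToRingEquiv
  obtain ⟨⟨a, u⟩, h⟩ := IsLocalization.surj p.asIdeal.primeCompl (e z)
  refine ⟨a, u, ?_, ?_⟩
  · rw [tS_eq]
    exact (IsLocalization.map_units (Localization.AtPrime p.asIdeal) u).map e.symm.toRingHom
  · rw [tS_eq]
    apply e.injective
    refine Eq.trans ?_ (h.trans (e.apply_symm_apply _).symm)
    rw [map_mul]
    exact congrArg (e z * ·) (e.apply_symm_apply _)

theorem exists_of_tS_eq_zero (R : CommRingCat.{u}) (p : PrimeSpectrum R) (a : R) (h : tS R p a = 0) :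
    ∃ v, IsUnit (tS R p v) ∧ v * a = 0 := by
  let e := (Spec.stalkIso R p).commRingCatIsoToRingEquiv
  rw [tS_eq] at h
  have h' : algebraMap R (Localization.AtPrime p.asIdeal) a = 0 := e.symm.injective (h.trans (map_zero e.symm).symm)
  obtain ⟨v, hv⟩ := (IsLocalization.map_eq_zero_iff p.asIdeal.primeCompl _ a).1 h'
  refine ⟨v, ?_, hv⟩
  rw [tS_eq]
  exact (IsLocalization.map_units (Localization.AtPrime p.asIdeal) v).map e.symm.toRingHom

theorem sm_factor {X Y S : Scheme.{u}} (f : X ⟶ Y) (g : Y ⟶ S) (e : X ⟶ S) (he : e = f ≫ g) (x : X) (y : Y) (s : S)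
    (hy : f x = y) (hs : g y = s) (h : e x = s) : sm e x s h = (sm f x y hy).comp (sm g y s hs) := by
  subst he
  exact sm_comp f g x y s hy hs

/-- Flatness through an immersion into the target. -/
theorem flat_of_factor {X Y Y₁ S : Scheme.{u}} (f : X ⟶ Y) (i : Y ⟶ Y₁) [IsPreimmersion i] (g₁ : Y₁ ⟶ S)
    (f₁ : X ⟶ Y₁) (g : Y ⟶ S) (hf : f₁ = f ≫ i) (hg : g = i ≫ g₁) (z : X)
    (h₁ : (f₁.stalkMap z).hom.Flat) (h₂ : (g₁.stalkMap (f₁ z)).hom.Flat) :
    (g.stalkMap (f z)).hom.Flat ∧ (f.stalkMap z).hom.Flat := by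
  subst hf hg
  rw [← sm_flat_iff _ z (i (f z)) (Scheme.Hom.comp_apply _ _ _), sm_comp f i z (f z) (i (f z)) rfl rfl] at h₁
  rw [Scheme.Hom.comp_apply, ← sm_self] at h₂
  have hbij : Function.Bijective (sm i (f z) (i (f z)) rfl) := by
    refine ⟨?_, surjective_sm _ _ _⟩
    have := injective_sm_of_flat (f ≫ i) z (i (f z)) (Scheme.Hom.comp_apply _ _ _)
      (by rw [sm_comp f i z (f z) (i (f z)) rfl rfl]; exact h₁)
    rw [sm_comp f i z (f z) (i (f z)) rfl rfl, RingHom.coe_comp] at this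
    exact this.of_comp
  constructor
  · rw [← sm_flat_iff (i ≫ g₁) (f z) (g₁ (i (f z))) (Scheme.Hom.comp_apply _ _ _),
      sm_comp i g₁ (f z) (i (f z)) _ rfl rfl]
    exact h₂.comp (RingHom.Flat.of_bijective hbij)
  · rw [← sm_flat_iff f z (f z) rfl]
    exact (flat_iff_of_bijective_square _ (sm f z (f z) rfl) (sm i (f z) (i (f z)) rfl) (RingHom.id _) hbij
      Function.bijective_id (RingHom.id_comp _).symm).1 h₁

/-- The criterion for algebras of finite type, with the open set on which it then holds. -/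
theorem affine_main {R S' P' : Type u} [CommRing R] [CommRing S'] [CommRing P'] [Algebra R S'] [Algebra R P']
    [Algebra.FiniteType R S'] [Algebra.FinitePresentation R P'] [Module.Flat R P'] (φ : S' →ₐ[R] P')
    (x' : Spec (CommRingCat.of P'))
    (hFF : FF (Spec.map (CommRingCat.ofHom φ.toRingHom)) (Spec.map (CommRingCat.ofHom (algebraMap R S'))) x') :
    ∃ W : Set (Spec (CommRingCat.of P')), IsOpen W ∧ x' ∈ W ∧ ∀ z ∈ W,
      ((Spec.map (CommRingCat.ofHom (algebraMap R S'))).stalkMap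
          (Spec.map (CommRingCat.ofHom φ.toRingHom) z)).hom.Flat ∧
        ((Spec.map (CommRingCat.ofHom φ.toRingHom)).stalkMap z).hom.Flat := by
  classical
  obtain ⟨m, π, hπ⟩ := Algebra.FiniteType.iff_quotient_mvPolynomial''.1 ‹Algebra.FiniteType R S'›
  set fS := Spec.map (CommRingCat.ofHom φ.toRingHom)
  set gS := Spec.map (CommRingCat.ofHom (algebraMap R S'))
  let y' := fS x'
  let s := gS y'
  let A := (Spec (CommRingCat.of R)).presheaf.stalk s
  let τ : R →+* ResidueField A := (residue A).comp (tS (CommRingCat.of R) s)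
  obtain ⟨t, ht, htspan⟩ := (Submodule.fg_span_iff_fg_span_finset_subset
    (MvPolynomial.map τ '' (RingHom.ker π.toRingHom : Set (MvPolynomial (Fin m) R)))).1
    (IsNoetherian.noetherian (Ideal.span (MvPolynomial.map τ '' (RingHom.ker π.toRingHom : Set (MvPolynomial (Fin m) R)))))
  obtain ⟨t₀, ht₀, rfl⟩ := Finset.subset_set_image_iff.1 ht
  let J : Ideal (MvPolynomial (Fin m) R) := Ideal.span t₀
  have hJ : J.FG := ⟨t₀, rfl⟩
  have : Algebra.FinitePresentation R (MvPolynomial (Fin m) R ⧸ J) := Algebra.FinitePresentation.quotient hJ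
  let i : (MvPolynomial (Fin m) R ⧸ J) →ₐ[R] S' :=
    Ideal.Quotient.liftₐ J π fun a ha => (Ideal.span_le.2 ht₀ : J ≤ RingHom.ker π.toRingHom) ha
  have hi : Function.Surjective i := fun y => let ⟨x, hx⟩ := hπ y; ⟨Ideal.Quotient.mk J x, hx⟩
  let iS := Spec.map (CommRingCat.ofHom i.toRingHom)
  let gP := Spec.map (CommRingCat.ofHom (algebraMap R (MvPolynomial (Fin m) R ⧸ J)))
  let fP := Spec.map (CommRingCat.ofHom (φ.comp i).toRingHom)
  have hfP : fP = fS ≫ iS := by
    rw [← Spec.map_comp]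
    exact congrArg Spec.map (CommRingCat.hom_ext rfl)
  have hgS : gS = iS ≫ gP := by
    rw [← Spec.map_comp]
    exact congrArg Spec.map (CommRingCat.hom_ext i.comp_algebraMap.symm)
  have : IsClosedImmersion iS := IsClosedImmersion.spec_of_surjective _ hi
  let y₁ := iS y'
  let b := sm iS y' y₁ rfl
  have hs : gP y₁ = s := by
    simp only [s, y₁, hgS, Scheme.Hom.comp_apply]
  have hψ : sm gS y' s rfl = b.comp (sm gP y₁ s hs) := by
    exact sm_factor iS gP gS hgS y' y₁ s rfl hs rfl
  have hφ : sm fP x' y₁ (by rw [hfP, Scheme.Hom.comp_apply]) = (sm fS x' y' rfl).comp b := by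
    exact sm_factor fS iS fP hfP x' y' y₁ rfl rfl _
  have hker : RingHom.ker b ≤ (maximalIdeal A).map (sm gP y₁ s hs) := by
    intro z hz
    rw [RingHom.mem_ker] at hz
    set K := (maximalIdeal A).map (sm gP y₁ s hs)
    obtain ⟨a, u, hu, hau⟩ := tS_surj _ _ z
    have hnat := RingHom.congr_fun (tS_natural (CommRingCat.ofHom i.toRingHom) y' y₁ rfl)
    simp only [RingHom.comp_apply] at hnat
    have h0 : tS (CommRingCat.of S') y' (i a) = 0 := by
      refine (hnat a).symm.trans ?_
      rw [← hau, map_mul]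
      exact (congrArg (· * _) hz).trans (zero_mul _)
    obtain ⟨v, hv, hva⟩ := exists_of_tS_eq_zero _ _ _ h0
    obtain ⟨v, rfl⟩ := hi v
    have hv' : IsUnit (tS (CommRingCat.of _) y₁ v) := by
      refine isUnit_of_map_unit b _ ?_
      rw [show b (tS (CommRingCat.of _) y₁ v) = _ from hnat v]
      exact hv
    obtain ⟨c, hc⟩ := Ideal.Quotient.mk_surjective (v * a)
    have hcπ : c ∈ RingHom.ker π.toRingHom := by
      show π c = 0
      rw [← hva, ← map_mul, ← hc]
      rfl
    let κ : R →+* (Spec (CommRingCat.of (MvPolynomial (Fin m) R ⧸ J))).presheaf.stalk y₁ ⧸ K :=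
      (Ideal.Quotient.mk K).comp ((tS (CommRingCat.of _) y₁).comp (algebraMap R (MvPolynomial (Fin m) R ⧸ J)))
    let ρA : ResidueField A →+* (Spec (CommRingCat.of (MvPolynomial (Fin m) R ⧸ J))).presheaf.stalk y₁ ⧸ K :=
      Ideal.quotientMap K (sm gP y₁ s hs) Ideal.le_comap_map
    have hκ : ρA.comp τ = κ := RingHom.ext fun r => by
      show Ideal.Quotient.mk K (sm gP y₁ s hs (tS (CommRingCat.of R) s r)) = _
      exact congrArg _ (RingHom.congr_fun
        (tS_natural (CommRingCat.ofHom (algebraMap R (MvPolynomial (Fin m) R ⧸ J))) y₁ s hs) r)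
    let q : MvPolynomial (Fin m) R →+* (Spec (CommRingCat.of (MvPolynomial (Fin m) R ⧸ J))).presheaf.stalk y₁ ⧸ K :=
      ((Ideal.Quotient.mk K).comp (tS (CommRingCat.of _) y₁)).comp (Ideal.Quotient.mk J)
    let E := MvPolynomial.eval₂Hom ρA fun k => q (MvPolynomial.X k)
    have hE : E.comp (MvPolynomial.map τ) = q := by
      refine MvPolynomial.ringHom_ext (fun r => ?_) fun k => ?_
      · simp only [E, RingHom.comp_apply, MvPolynomial.map_C, MvPolynomial.eval₂Hom_C]
        exact RingHom.congr_fun hκ r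
      · simp [E]
    have hq : q c = 0 := by
      rw [← hE, RingHom.comp_apply]
      have h1 : MvPolynomial.map τ c ∈ Ideal.span ((t₀.image (MvPolynomial.map τ) : Finset _) : Set (MvPolynomial (Fin m) (ResidueField A))) :=
        htspan.le (Ideal.subset_span ⟨c, hcπ, rfl⟩)
      refine (Ideal.span_le.2 ?_ : _ ≤ RingHom.ker E) h1
      intro w hw
      obtain ⟨w₀, hw₀, rfl⟩ := Finset.mem_image.1 hw
      rw [SetLike.mem_coe, RingHom.mem_ker, ← RingHom.comp_apply, hE]
      show Ideal.Quotient.mk K (tS (CommRingCat.of _) y₁ (Ideal.Quotient.mk J w₀)) = 0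
      rw [Ideal.Quotient.eq_zero_iff_mem.2 (Ideal.subset_span hw₀ : w₀ ∈ J), map_zero, map_zero]
    have h2 : tS (CommRingCat.of _) y₁ (v * a) ∈ K := by
      rw [← hc]
      exact Ideal.Quotient.eq_zero_iff_mem.1 hq
    rw [map_mul, Ideal.unit_mul_mem_iff_mem _ hv', ← hau, Ideal.mul_unit_mem_iff_mem _ hu] at h2
    exact h2
  have hFF' : FF fP gP x' := by
    rw [ff_iff fP gP x' y₁ s (by rw [hfP, Scheme.Hom.comp_apply]) hs]
    refine (ffl_congr (ψ' := sm gS y' s rfl) (φ' := sm fS x' y' rfl) (RingHom.id _) b (RingHom.id _) Function.surjective_id (surjective_sm _ _ _)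
      Function.surjective_id (by rw [RingHom.comp_id]; exact hψ) (by rw [RingHom.id_comp]; exact hφ.symm)
      hker (fun w hw => by rw [show w = 0 from RingHom.mem_ker.1 hw]; exact zero_mem _)).2 ?_
    exact hFF
  obtain ⟨hgP, hfPflat⟩ := core_affine (φ.comp i) x' hFF'
  have : LocallyOfFinitePresentation gP :=
    HasRingHomProperty.Spec_iff.2 (RingHom.finitePresentation_algebraMap.2 inferInstance)
  have : LocallyOfFinitePresentation fP := by
    refine HasRingHomProperty.Spec_iff.2 ?_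
    have h : RingHom.FinitePresentation ((φ.comp i).toRingHom.comp (algebraMap R _)) := by
      have e : (φ.comp i).toRingHom.comp (algebraMap R _) = algebraMap R P' := (φ.comp i).comp_algebraMap
      rw [e]
      exact RingHom.finitePresentation_algebraMap.2 inferInstance
    exact RingHom.FinitePresentation.of_comp_finiteType _ h (RingHom.finiteType_algebraMap.2 inferInstance)
  refine ⟨{z | (fP.stalkMap z).hom.Flat} ∩ fP ⁻¹' {w | (gP.stalkMap w).hom.Flat},
    (FlatLocus.isOpen_flat_locus fP).inter ((FlatLocus.isOpen_flat_locus gP).preimage fP.continuous),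
    ⟨hfPflat, hgP⟩, ?_⟩
  rintro z ⟨hz₁, hz₂⟩
  exact flat_of_factor fS iS gP fP gS hfP hgS z hz₁ hz₂

end Groth.Agent.FibFlat
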