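import Groth.Agent.FibFlat.Ring
import Groth.Agent.FlatDvr.FibreStalk
import Groth.Agent.ConsPropLib.Fibre

/-!
Fibrewise flatness at a point, in terms of local rings.
-/

universe u

open AlgebraicGeometry CategoryTheory CategoryTheory.Limits IsLocalRing

namespace Groth.Agent.FibFlat

variable {X Y S : Scheme.{u}}

/-- The stalk map at `x`, from the stalk at a point equal to the image. -/
noncomputable def sm (f : X ⟶ Y) (x : X) (y : Y) (h : f x = y) : Y.presheaf.stalk y →+* X.presheaf.stalk x :=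
  (Y.presheaf.stalkSpecializes (specializes_of_eq h) ≫ f.stalkMap x).hom

theorem sm_self (f : X ⟶ Y) (x : X) : sm f x (f x) rfl = (f.stalkMap x).hom := by
  rw [sm, TopCat.Presheaf.stalkSpecializes_refl, Category.id_comp]

theorem sm_comp (f : X ⟶ Y) (g : Y ⟶ S) (x : X) (y : Y) (s : S) (hy : f x = y) (hs : g y = s) :
    sm (f ≫ g) x s (by rw [Scheme.Hom.comp_apply, hy, hs]) = (sm f x y hy).comp (sm g y s hs) := by
  subst hy hs
  rw [sm_self, sm_self]
  refine (sm_self (f ≫ g) x).trans ?_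
  rw [Scheme.Hom.stalkMap_comp]
  rfl

theorem sm_congr {f g : X ⟶ Y} (e : f = g) (x : X) (y : Y) (h : f x = y) :
    sm f x y h = sm g x y (e ▸ h) := by
  subst e
  rfl

theorem sm_flat_iff (f : X ⟶ Y) (x : X) (y : Y) (h : f x = y) :
    (sm f x y h).Flat ↔ (f.stalkMap x).hom.Flat := by
  subst h
  rw [sm_self]

instance isLocalHom_sm (f : X ⟶ Y) (x : X) (y : Y) (h : f x = y) : IsLocalHom (sm f x y h) := by
  subst h
  rw [sm_self]
  infer_instance

/-- `O_{X,x}/m_s` is flat over `O_{Y,y}/m_s`. -/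
def FF (f : X ⟶ Y) (g : Y ⟶ S) (x : X) : Prop :=
  FFl (sm g (f x) (g (f x)) rfl) (sm f x (f x) rfl)

theorem ff_iff (f : X ⟶ Y) (g : Y ⟶ S) (x : X) (y : Y) (s : S) (hy : f x = y) (hs : g y = s) :
    FF f g x ↔ FFl (sm g y s hs) (sm f x y hy) := by
  subst hy hs
  rfl

theorem ker_sm_fiberι (u : X ⟶ S) (s : S) (w : ↥(u.fiber s)) (x : X) (h : u.fiberι s w = x) :
    RingHom.ker (sm (u.fiberι s) w x h) = (maximalIdeal _).map (sm u x (u x) rfl) := by
  subst h
  rw [sm_self, sm_self]
  exact FlatDvr.ker_stalkMap_fiberι u w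

theorem surjective_sm {f : X ⟶ Y} [IsPreimmersion f] (x : X) (y : Y) (h : f x = y) :
    Function.Surjective (sm f x y h) := by
  subst h
  rw [sm_self]
  exact f.stalkMap_surjective x

/-- Flatness of the stalk map of a map of fibres, on the local rings. -/
theorem fibre_map_flat_iff {X' S' : Scheme.{u}} (p : X' ⟶ X) (u' : X' ⟶ S') (u : X ⟶ S) (s : S) (s' : S')
    (e : u'.fiber s' ⟶ u.fiber s) (he : e ≫ u.fiberι s = u'.fiberι s' ≫ p) (w : ↥(u'.fiber s'))
    (x' : X') (hx' : u'.fiberι s' w = x')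
    (hle : (maximalIdeal _).map (sm u (p x') (u (p x')) rfl) ≤
      ((maximalIdeal _).map (sm u' x' (u' x') rfl)).comap (sm p x' (p x') rfl)) :
    (Ideal.quotientMap ((maximalIdeal _).map (sm u' x' (u' x') rfl)) (sm p x' (p x') rfl) hle).Flat ↔
      (e.stalkMap w).hom.Flat := by
  have hv : u.fiberι s (e w) = p x' := by
    rw [← hx', ← Scheme.Hom.comp_apply, he, Scheme.Hom.comp_apply]
  rw [← sm_flat_iff e w _ rfl]
  refine quotientMap_flat_iff_of_surjective _ _ (sm (u.fiberι s) (e w) (p x') hv) (sm (u'.fiberι s') w x' hx')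
    (surjective_sm _ _ _) (surjective_sm _ _ _) ?_ (ker_sm_fiberι u s _ _ hv) (ker_sm_fiberι u' s' _ _ hx') hle
  rw [← sm_comp e (u.fiberι s) w (e w) (p x') rfl hv, ← sm_comp (u'.fiberι s') p w x' (p x') hx' rfl]
  exact sm_congr he _ _ _

theorem fiberMap_flat_iff_aux (f : X ⟶ Y) (g : Y ⟶ S) (s : S) (w : ↥((f ≫ g).fiber s)) (x : X)
    (hx : (f ≫ g).fiberι s w = x) :
    ((MoreMor.fiberMap f g s).stalkMap w).hom.Flat ↔ FF f g x := by
  have hcomp : sm (f ≫ g) x ((f ≫ g) x) rfl = (sm f x (f x) rfl).comp (sm g (f x) (g (f x)) rfl) :=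
    sm_comp f g x (f x) (g (f x)) rfl rfl
  have hJ : (maximalIdeal _).map (sm (f ≫ g) x ((f ≫ g) x) rfl) =
      ((maximalIdeal _).map (sm g (f x) (g (f x)) rfl)).map (sm f x (f x) rfl) := by
    rw [hcomp, Ideal.map_map]
    rfl
  have hle := (Ideal.le_comap_map (f := sm f x (f x) rfl)
    (I := (maximalIdeal _).map (sm g (f x) (g (f x)) rfl))).trans (Ideal.comap_mono hJ.ge)
  rw [← fibre_map_flat_iff f (f ≫ g) g s s (MoreMor.fiberMap f g s) (ConsPropLib.fiberMap_comp_ι f g s) w x hx hle,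
    FF, FFl]
  exact quotientMap_flat_iff _ _ (RingHom.id _) (RingHom.id _) Function.surjective_id Function.surjective_id
    (by simp) (fun z hz => by rw [show z = 0 from RingHom.mem_ker.1 hz]; exact zero_mem _)
    (fun z hz => by rw [show z = 0 from RingHom.mem_ker.1 hz]; exact zero_mem _) (by simp) (by rw [Ideal.map_id, hJ]) _ _

theorem fiberMap_flat_iff (f : X ⟶ Y) (g : Y ⟶ S) (x : X) :
    ((MoreMor.fiberMap f g (g (f x))).stalkMap ((f ≫ g).asFiber x)).hom.Flat ↔ FF f g x :=
  fiberMap_flat_iff_aux f g _ _ x ((f ≫ g).fiberι_asFiber x)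

/-- Along a cartesian square the local rings of the fibres form a flat extension. -/
theorem quotient_flat_of_isPullback {X' S' : Scheme.{u}} {p : X' ⟶ X} {u' : X' ⟶ S'} {u : X ⟶ S}
    {h : S' ⟶ S} (sq : IsPullback p u' u h) (x' : X')
    (hle : (maximalIdeal _).map (sm u (p x') (u (p x')) rfl) ≤
      ((maximalIdeal _).map (sm u' x' (u' x') rfl)).comap (sm p x' (p x') rfl)) :
    (Ideal.quotientMap ((maximalIdeal _).map (sm u' x' (u' x') rfl)) (sm p x' (p x') rfl) hle).Flat := by
  obtain ⟨e, he, hι⟩ := ConsPropLib.exists_fibre_pullback sq (u' x')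
  have h1 : Flat (Spec.map (h.residueFieldMap (u' x'))) := by
    rw [Flat.SpecMap_iff]
    let := (h.residueFieldMap (u' x')).hom.toAlgebra
    exact RingHom.flat_algebraMap_iff.2 inferInstance
  have : Flat e := MorphismProperty.of_isPullback (P := (@Flat : MorphismProperty Scheme.{u})) he.flip h1
  exact (fibre_map_flat_iff p u' u _ _ e hι _ x' (u'.fiberι_asFiber x') hle).2 (Flat.stalkMap e _)

/-- A flat local homomorphism is injective. -/
theorem injective_sm_of_flat (f : X ⟶ Y) (x : X) (y : Y) (h : f x = y) (hf : (sm f x y h).Flat) :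
    Function.Injective (sm f x y h) := by
  let := (sm f x y h).toAlgebra
  have : Module.Flat (Y.presheaf.stalk y) (X.presheaf.stalk x) := hf
  have : IsLocalHom (algebraMap (Y.presheaf.stalk y) (X.presheaf.stalk x)) := isLocalHom_sm f x y h
  have := Module.FaithfullyFlat.of_flat_of_isLocalHom (A := Y.presheaf.stalk y) (B := X.presheaf.stalk x)
  exact FaithfulSMul.algebraMap_injective _ _

end Groth.Agent.FibFlat
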