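import Mathlib
import Groth.Agent.FlatModel.Core

/-!
A map of finitely presented algebras with flat target descends to a Noetherian base.
-/

universe u

open CategoryTheory CategoryTheory.Limits MvPolynomial

namespace Groth.Agent.FibFlat

variable {n : ℕ}

/-- Base change of a presentation is a pushout. -/
theorem exists_isPushout_presentation {R₁ R P : Type u} [CommRing R₁] [CommRing R] [CommRing P]
    (i : R₁ →+* R) (π : MvPolynomial (Fin n) R →+* P) (hπ : Function.Surjective π)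
    (I₁ : Ideal (MvPolynomial (Fin n) R₁)) (hI : RingHom.ker π = I₁.map (MvPolynomial.map i)) :
    ∃ j : MvPolynomial (Fin n) R₁ ⧸ I₁ →+* P,
      (∀ x, j (Ideal.Quotient.mk I₁ x) = π (MvPolynomial.map i x)) ∧
      IsPushout (CommRingCat.ofHom i) (CommRingCat.ofHom ((Ideal.Quotient.mk I₁).comp MvPolynomial.C))
        (CommRingCat.ofHom (π.comp MvPolynomial.C)) (CommRingCat.ofHom j) := by
  let j : MvPolynomial (Fin n) R₁ ⧸ I₁ →+* P := Ideal.Quotient.lift I₁ (π.comp (MvPolynomial.map i))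
    fun x hx => RingHom.mem_ker.1 (hI.ge (Ideal.mem_map_of_mem _ hx))
  have hw : CommRingCat.ofHom i ≫ CommRingCat.ofHom (π.comp MvPolynomial.C) =
      CommRingCat.ofHom ((Ideal.Quotient.mk I₁).comp MvPolynomial.C) ≫ CommRingCat.ofHom j := by
    ext r
    show π (C (i r)) = π (MvPolynomial.map i (C r))
    rw [MvPolynomial.map_C]
  have key : ∀ {T : Type u} [CommRing T] (g : {g : MvPolynomial (Fin n) R →+* T // RingHom.ker π ≤ RingHom.ker g})
      (y : MvPolynomial (Fin n) R), π.liftOfSurjective hπ g (π y) = g.1 y :=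
    fun g y => RingHom.liftOfRightInverse_comp_apply π _ _ g y
  have hjmk : ∀ x, j (Ideal.Quotient.mk I₁ x) = π (MvPolynomial.map i x) := fun _ => rfl
  refine ⟨j, hjmk, ⟨⟨hw⟩, ⟨PushoutCocone.IsColimit.mk _
    (fun c => CommRingCat.ofHom (π.liftOfSurjective hπ
      ⟨eval₂Hom c.inl.hom fun k => c.inr.hom (Ideal.Quotient.mk I₁ (X k)), ?_⟩)) ?_ ?_ ?_⟩⟩⟩
  · rw [hI]
    refine Ideal.map_le_iff_le_comap.2 fun z hz => ?_
    have he : (eval₂Hom c.inl.hom fun k => c.inr.hom (Ideal.Quotient.mk I₁ (X k))).comp (MvPolynomial.map i) =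
        c.inr.hom.comp (Ideal.Quotient.mk I₁) := by
      refine MvPolynomial.ringHom_ext (fun r => ?_) fun k => ?_
      · simp only [RingHom.comp_apply, MvPolynomial.map_C, eval₂Hom_C]
        exact RingHom.congr_fun (congrArg CommRingCat.Hom.hom c.condition) r
      · simp
    rw [Ideal.mem_comap, RingHom.mem_ker, ← RingHom.comp_apply, he, RingHom.comp_apply,
      Ideal.Quotient.eq_zero_iff_mem.2 hz, map_zero]
  · intro c
    refine CommRingCat.hom_ext (RingHom.ext fun r => ?_)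
    simp only [CommRingCat.hom_comp, CommRingCat.hom_ofHom, RingHom.comp_apply, key, eval₂Hom_C]
  · intro c
    refine CommRingCat.hom_ext (Ideal.Quotient.ringHom_ext (MvPolynomial.ringHom_ext (fun r => ?_) fun k => ?_))
    · simp only [CommRingCat.hom_comp, CommRingCat.hom_ofHom, RingHom.comp_apply, hjmk, key]
      rw [MvPolynomial.map_C, eval₂Hom_C]
      exact RingHom.congr_fun (congrArg CommRingCat.Hom.hom c.condition) r
    · simp only [CommRingCat.hom_comp, CommRingCat.hom_ofHom, RingHom.comp_apply, hjmk, key]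
      simp
  · intro c m h₁ h₂
    refine CommRingCat.hom_ext (RingHom.ext fun y => ?_)
    obtain ⟨y, rfl⟩ := hπ y
    refine Eq.trans ?_ (key _ y).symm
    refine RingHom.congr_fun (f := m.hom.comp π) ?_ y
    refine MvPolynomial.ringHom_ext (fun r => ?_) fun k => ?_
    · simp only [RingHom.comp_apply, eval₂Hom_C]
      exact RingHom.congr_fun (congrArg CommRingCat.Hom.hom h₁) r
    · simp only [RingHom.comp_apply, eval₂Hom_X']
      refine Eq.trans ?_ (RingHom.congr_fun (congrArg CommRingCat.Hom.hom h₂) (Ideal.Quotient.mk I₁ (X k)))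
      show m.hom (π (X k)) = m.hom (π (MvPolynomial.map i (X k)))
      rw [MvPolynomial.map_X]

/-- The relations of an algebra presentation as a submodule of `V 1 n`. -/
noncomputable def relMod {R₀ : Type u} [CommRing R₀] (I₀ : Ideal (MvPolynomial (Fin n) R₀)) :
    Submodule (MvPolynomial (Fin n) R₀) (FlatModel.V 1 n R₀) :=
  Submodule.comap (LinearMap.proj 0) I₀

theorem flatC_relMod_iff {R₀ R' : Type u} [CommRing R₀] [CommRing R'] [Algebra R₀ R']
    (I₀ : Ideal (MvPolynomial (Fin n) R₀)) :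
    FlatModel.FlatC (relMod I₀) R' ↔
      Module.Flat R' (MvPolynomial (Fin n) R' ⧸ I₀.map (MvPolynomial.map (algebraMap R₀ R'))) := by
  have hI : (FlatModel.KK (relMod I₀) R').map (LinearMap.proj 0) = I₀.map (MvPolynomial.map (algebraMap R₀ R')) := by
    rw [FlatModel.KK, Submodule.map_span, Ideal.map]
    congr 1
    ext y
    constructor
    · rintro ⟨_, ⟨w, hw, rfl⟩, rfl⟩
      exact ⟨w 0, hw, rfl⟩
    · rintro ⟨g, hg, rfl⟩
      exact ⟨_, ⟨fun _ => g, hg, rfl⟩, rfl⟩
  let e := (Submodule.Quotient.equiv (FlatModel.KK (relMod I₀) R') _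
    (LinearEquiv.funUnique (Fin 1) (MvPolynomial (Fin n) R') (MvPolynomial (Fin n) R')) hI).restrictScalars R'
  rw [FlatModel.flatC_iff_flat]
  exact ⟨fun _ => Module.Flat.of_linearEquiv e.symm, fun _ => Module.Flat.of_linearEquiv e⟩

theorem model_aux {R P P' R₀ R₁ : Type u} [CommRing R] [CommRing P] [CommRing P'] [Algebra R P] [Algebra R P']
    [CommRing R₀] [CommRing R₁] [IsNoetherianRing R₁] [Algebra R₀ R₁] [Algebra R₁ R] [Algebra R₀ R]
    [IsScalarTower R₀ R₁ R] (φ : P →ₐ[R] P') {m n : ℕ} (r : Fin m → Fin n)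
    (π : MvPolynomial (Fin m) R →ₐ[R] P) (hπ : Function.Surjective π)
    (π' : MvPolynomial (Fin n) R →ₐ[R] P') (hπ' : Function.Surjective π')
    (hπr : ∀ x, π' (rename r x) = φ (π x))
    (F₀ : Ideal (MvPolynomial (Fin m) R₀)) (H₀ : Ideal (MvPolynomial (Fin n) R₀))
    (hle : F₀ ≤ H₀.comap (rename r).toRingHom)
    (hF : RingHom.ker π.toRingHom = F₀.map (MvPolynomial.map (algebraMap R₀ R)))
    (hH : RingHom.ker π'.toRingHom = H₀.map (MvPolynomial.map (algebraMap R₀ R)))
    (hflat₁ : Module.Flat R₁ (MvPolynomial (Fin n) R₁ ⧸ H₀.map (MvPolynomial.map (algebraMap R₀ R₁)))) :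
    ∃ (R₁ P₁ P₁' : CommRingCat.{u}) (g₁ : R₁ ⟶ P₁) (f₁ : P₁ ⟶ P₁') (i : R₁ ⟶ CommRingCat.of R)
      (j : P₁ ⟶ CommRingCat.of P) (j' : P₁' ⟶ CommRingCat.of P'),
      IsNoetherianRing R₁ ∧ g₁.hom.FiniteType ∧ (g₁ ≫ f₁).hom.FiniteType ∧ (g₁ ≫ f₁).hom.Flat ∧
      IsPushout i g₁ (CommRingCat.ofHom (algebraMap R P)) j ∧
      IsPushout j f₁ (CommRingCat.ofHom φ.toRingHom) j' := by
  let i : R₁ →+* R := algebraMap R₁ R
  let F₁ : Ideal (MvPolynomial (Fin m) R₁) := F₀.map (MvPolynomial.map (algebraMap R₀ R₁))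
  let H₁ : Ideal (MvPolynomial (Fin n) R₁) := H₀.map (MvPolynomial.map (algebraMap R₀ R₁))
  have hmm : ∀ {l : ℕ}, (MvPolynomial.map (σ := Fin l) i).comp (MvPolynomial.map (algebraMap R₀ R₁)) =
      MvPolynomial.map (algebraMap R₀ R) := fun {l} => RingHom.ext fun x => by
    rw [RingHom.comp_apply, MvPolynomial.map_map, ← IsScalarTower.algebraMap_eq]
  obtain ⟨j, hj, hsq⟩ := exists_isPushout_presentation i π.toRingHom hπ F₁ (by rw [hF, Ideal.map_map, hmm])
  obtain ⟨j', hj', hsq'⟩ := exists_isPushout_presentation i π'.toRingHom hπ' H₁ (by rw [hH, Ideal.map_map, hmm])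
  let f₁ : MvPolynomial (Fin m) R₁ ⧸ F₁ →+* MvPolynomial (Fin n) R₁ ⧸ H₁ :=
    Ideal.quotientMap H₁ (rename r : MvPolynomial (Fin m) R₁ →ₐ[R₁] MvPolynomial (Fin n) R₁).toRingHom (Ideal.map_le_iff_le_comap.2 fun x hx => by
      show rename r (MvPolynomial.map (algebraMap R₀ R₁) x) ∈ H₁
      rw [← MvPolynomial.map_rename]
      exact Ideal.mem_map_of_mem _ (hle hx))
  let g₁ : R₁ →+* MvPolynomial (Fin m) R₁ ⧸ F₁ := (Ideal.Quotient.mk F₁).comp MvPolynomial.C
  have hgf : f₁.comp g₁ = algebraMap R₁ (MvPolynomial (Fin n) R₁ ⧸ H₁) := RingHom.ext fun x => by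
    show Ideal.Quotient.mk H₁ (rename r (C x)) = _
    rw [rename_C]
    rfl
  have hπC : π.toRingHom.comp MvPolynomial.C = algebraMap R P := RingHom.ext fun x => π.commutes x
  have hπ'C : π'.toRingHom.comp MvPolynomial.C = algebraMap R P' := RingHom.ext fun x => π'.commutes x
  rw [hπC] at hsq
  rw [hπ'C] at hsq'
  refine ⟨CommRingCat.of R₁, CommRingCat.of (MvPolynomial (Fin m) R₁ ⧸ F₁),
    CommRingCat.of (MvPolynomial (Fin n) R₁ ⧸ H₁), CommRingCat.ofHom g₁, CommRingCat.ofHom f₁,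
    CommRingCat.ofHom i, CommRingCat.ofHom j, CommRingCat.ofHom j', (inferInstance : IsNoetherianRing R₁), ?_, ?_, ?_, hsq, ?_⟩
  · exact RingHom.finiteType_algebraMap.2 (inferInstanceAs (Algebra.FiniteType R₁ (MvPolynomial (Fin m) R₁ ⧸ F₁)))
  · show (f₁.comp g₁).FiniteType
    rw [hgf]
    exact RingHom.finiteType_algebraMap.2 inferInstance
  · show (f₁.comp g₁).Flat
    rw [hgf]
    exact RingHom.flat_algebraMap_iff.2 hflat₁
  · refine IsPushout.of_top ?_ ?_ hsq
    · have e1 : CommRingCat.ofHom g₁ ≫ CommRingCat.ofHom f₁ =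
          CommRingCat.ofHom ((Ideal.Quotient.mk H₁).comp MvPolynomial.C) := CommRingCat.hom_ext hgf
      have e2 : CommRingCat.ofHom (algebraMap R P) ≫ CommRingCat.ofHom φ.toRingHom =
          CommRingCat.ofHom (algebraMap R P') := CommRingCat.hom_ext φ.comp_algebraMap
      rw [e1, e2]
      exact hsq'
    · refine CommRingCat.hom_ext (Ideal.Quotient.ringHom_ext (RingHom.ext fun x => ?_))
      show φ (j (Ideal.Quotient.mk F₁ x)) = j' (Ideal.Quotient.mk H₁ (rename r x))
      rw [hj, hj']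
      show φ (π _) = π' _
      rw [MvPolynomial.map_rename, hπr]

/-- Descent of a map of finitely presented algebras with flat target. -/
theorem exists_noetherian_model (R P P' : Type u) [CommRing R] [CommRing P] [CommRing P'] [Algebra R P]
    [Algebra R P'] [Algebra.FinitePresentation R P] [Algebra.FinitePresentation R P'] [Module.Flat R P']
    (φ : P →ₐ[R] P') :
    ∃ (R₁ P₁ P₁' : CommRingCat.{u}) (g₁ : R₁ ⟶ P₁) (f₁ : P₁ ⟶ P₁') (i : R₁ ⟶ CommRingCat.of R)
      (j : P₁ ⟶ CommRingCat.of P) (j' : P₁' ⟶ CommRingCat.of P'),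
      IsNoetherianRing R₁ ∧ g₁.hom.FiniteType ∧ (g₁ ≫ f₁).hom.FiniteType ∧ (g₁ ≫ f₁).hom.Flat ∧
      IsPushout i g₁ (CommRingCat.ofHom (algebraMap R P)) j ∧
      IsPushout j f₁ (CommRingCat.ofHom φ.toRingHom) j' := by
  classical
  obtain ⟨m, π, hπ, sf, hsf⟩ := Algebra.FinitePresentation.out (R := R) (A := P)
  obtain ⟨k, z, hz, -⟩ := Algebra.FinitePresentation.out (R := R) (A := P')
  let n := m + k
  let r : Fin m → Fin n := Fin.castAdd k
  let v : Fin n → P' := Fin.append (fun a => φ (π (X a))) fun b => z (X b)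
  let π' : MvPolynomial (Fin n) R →ₐ[R] P' := aeval v
  have hπr : ∀ x, π' (rename r x) = φ (π x) := by
    intro x
    show (π'.comp (rename r)) x = (φ.comp π) x
    congr 1
    ext a
    simp [π', v, r]
  have hπ' : Function.Surjective π' := by
    intro y
    obtain ⟨p, rfl⟩ := hz y
    refine ⟨rename (Fin.natAdd m) p, ?_⟩
    show (π'.comp (rename (Fin.natAdd m))) p = z p
    congr 1
    ext b
    simp [π', v]
  obtain ⟨sh, hsh⟩ := Algebra.FinitePresentation.ker_fG_of_surjective π' hπ'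
  let c : Finset R := (sf.biUnion fun g => g.coeffs) ∪ sh.biUnion fun g => g.coeffs
  let R₀ : Subalgebra ℤ R := Algebra.adjoin ℤ (c : Set R)
  have : Algebra.FiniteType ℤ R₀ := (Subalgebra.fg_iff_finiteType R₀).1 (Subalgebra.fg_adjoin_finset c)
  have : IsNoetherianRing R₀ := Algebra.FiniteType.isNoetherianRing ℤ R₀
  let F₀ : Ideal (MvPolynomial (Fin m) R₀) :=
    Ideal.span {g | MvPolynomial.map (algebraMap R₀ R) g ∈ sf}
  let H₀ : Ideal (MvPolynomial (Fin n) R₀) :=
    Ideal.span ({g | MvPolynomial.map (algebraMap R₀ R) g ∈ sh}) ⊔ F₀.map (rename r).toRingHom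
  have hdesc : ∀ {l : ℕ} (g : MvPolynomial (Fin l) R), (g.coeffs : Set R) ⊆ c →
      ∃ g₀ : MvPolynomial (Fin l) R₀, MvPolynomial.map (algebraMap R₀ R) g₀ = g := fun g hg =>
    MvPolynomial.mem_range_map_iff_coeffs_subset.2 fun x hx => ⟨⟨x, Algebra.subset_adjoin (hg hx)⟩, rfl⟩
  have hF : RingHom.ker π.toRingHom = F₀.map (MvPolynomial.map (algebraMap R₀ R)) := by
    refine le_antisymm ?_ (Ideal.map_le_iff_le_comap.2 (Ideal.span_le.2 fun g hg => hsf.le (Submodule.subset_span hg)))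
    refine hsf.ge.trans (Submodule.span_le.2 fun g hg => ?_)
    obtain ⟨g₀, rfl⟩ := hdesc g fun x hx => Finset.mem_union_left _ (Finset.mem_biUnion.2 ⟨g, hg, hx⟩)
    exact Ideal.mem_map_of_mem _ (Ideal.subset_span hg)
  have hH : RingHom.ker π'.toRingHom = H₀.map (MvPolynomial.map (algebraMap R₀ R)) := by
    refine le_antisymm ?_ (Ideal.map_le_iff_le_comap.2 (sup_le
      (Ideal.span_le.2 fun g hg => hsh.le (Submodule.subset_span hg)) (Ideal.map_le_iff_le_comap.2 fun x hx => ?_)))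
    · refine hsh.ge.trans (Submodule.span_le.2 fun g hg => ?_)
      obtain ⟨g₀, rfl⟩ := hdesc g fun x hx => Finset.mem_union_right _ (Finset.mem_biUnion.2 ⟨g, hg, hx⟩)
      exact Ideal.mem_map_of_mem _ (Ideal.mem_sup_left (Ideal.subset_span hg))
    · show π' (MvPolynomial.map (algebraMap R₀ R) (rename r x)) = 0
      rw [MvPolynomial.map_rename, hπr]
      rw [show π (MvPolynomial.map (algebraMap R₀ R) x) = 0 from hF.ge (Ideal.mem_map_of_mem _ hx), map_zero]
  have hflat : FlatModel.FlatC (relMod H₀) R := by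
    rw [flatC_relMod_iff, ← hH]
    exact Module.Flat.of_linearEquiv (Ideal.quotientKerAlgEquivOfSurjective hπ').toLinearEquiv
  obtain ⟨R₁, hR₁, hflat₁⟩ := FlatModel.exists_fg_flatC (relMod H₀) hflat
  rw [flatC_relMod_iff] at hflat₁
  have : Algebra.FiniteType R₀ R₁ := (Subalgebra.fg_iff_finiteType R₁).1 hR₁
  have hR₁N : IsNoetherianRing R₁ := Algebra.FiniteType.isNoetherianRing R₀ R₁
  exact model_aux (R₀ := R₀) (R₁ := R₁) φ r π hπ π' hπ' hπr F₀ H₀
    (Ideal.map_le_iff_le_comap.1 le_sup_right) hF hH hflat₁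

end Groth.Agent.FibFlat
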