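import Groth.Agent.FibFlat.Stalk
import Groth.Agent.FibFlat.Descent
import Groth.Agent.FlatLocus.Basic

/-!
The fibrewise criterion of flatness for finitely presented algebras.
-/

universe u

open AlgebraicGeometry CategoryTheory CategoryTheory.Limits IsLocalRing

namespace Groth.Agent.FibFlat

variable {X Y S : Scheme.{u}}

theorem map_max_sm (u : X ⟶ S) (x : X) (s : S) (h : u x = s) :
    (maximalIdeal _).map (sm u x (u x) rfl) = (maximalIdeal _).map (sm u x s h) := by
  subst h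
  rfl

theorem quotient_flat_of_isPullback' {X' S' : Scheme.{u}} {p : X' ⟶ X} {u' : X' ⟶ S'} {u : X ⟶ S}
    {h : S' ⟶ S} (sq : IsPullback p u' u h) (x' : X') (x : X) (hx : p x' = x) (s : S) (hs : u x = s)
    (s' : S') (hs' : u' x' = s') (I : Ideal (X.presheaf.stalk x)) (hI : I = (maximalIdeal _).map (sm u x s hs))
    (J : Ideal (X'.presheaf.stalk x')) (hJ : J = (maximalIdeal _).map (sm u' x' s' hs'))
    (hle : I ≤ J.comap (sm p x' x hx)) : (Ideal.quotientMap J (sm p x' x hx) hle).Flat := by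
  subst hx hs hs' hI hJ
  exact quotient_flat_of_isPullback sq x' hle

theorem flat_stalk_open_comp {U : Scheme.{u}} (j : U ⟶ X) [IsOpenImmersion j] (f : X ⟶ Y) (z : U) :
    ((j ≫ f).stalkMap z).hom.Flat ↔ (f.stalkMap (j z)).hom.Flat := by
  rw [Scheme.Hom.stalkMap_comp]
  exact FlatLocus.flat_comp_isIso _ _

/-- Flatness at a point is stable under base change. -/
theorem flat_stalk_of_isPullback {X' S' : Scheme.{u}} {p : X' ⟶ X} {u' : X' ⟶ S'} {u : X ⟶ S}
    {h : S' ⟶ S} (sq : IsPullback p u' u h) [LocallyOfFinitePresentation u] (x' : X')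
    (hf : (u.stalkMap (p x')).hom.Flat) : (u'.stalkMap x').hom.Flat := by
  let U : X.Opens := ⟨{x | (u.stalkMap x).hom.Flat}, FlatLocus.isOpen_flat_locus u⟩
  have h1 : Flat (U.ι ≫ u) := Flat.of_stalkMap _ fun z => (flat_stalk_open_comp U.ι u z).2 z.2
  have h2 : IsPullback (p ∣_ U) ((p ⁻¹ᵁ U).ι ≫ u') (U.ι ≫ u) h :=
    (isPullback_morphismRestrict p U).paste_vert sq
  have : Flat ((p ⁻¹ᵁ U).ι ≫ u') :=
    MorphismProperty.of_isPullback (P := (@Flat : MorphismProperty Scheme.{u})) h2 h1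
  exact (flat_stalk_open_comp (p ⁻¹ᵁ U).ι u' ⟨x', hf⟩).1 (Flat.stalkMap _ _)

/-- The criterion for a map of finitely presented algebras with flat target. -/
theorem core_affine {R P P' : Type u} [CommRing R] [CommRing P] [CommRing P'] [Algebra R P] [Algebra R P']
    [Algebra.FinitePresentation R P] [Algebra.FinitePresentation R P'] [Module.Flat R P'] (φ : P →ₐ[R] P')
    (x' : Spec (CommRingCat.of P'))
    (hFF : FF (Spec.map (CommRingCat.ofHom φ.toRingHom)) (Spec.map (CommRingCat.ofHom (algebraMap R P))) x') :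
    ((Spec.map (CommRingCat.ofHom (algebraMap R P))).stalkMap
        (Spec.map (CommRingCat.ofHom φ.toRingHom) x')).hom.Flat ∧
      ((Spec.map (CommRingCat.ofHom φ.toRingHom)).stalkMap x').hom.Flat := by
  obtain ⟨R₁, P₁, P₁', g₁, f₁, i, j, j', hN, hg₁, hgf₁, hflat, sqA, sqB⟩ :=
    exists_noetherian_model R P P' φ
  have sY := (isPullback_SpecMap_of_isPushout _ _ _ _ sqA).flip
  have sX := (isPullback_SpecMap_of_isPushout _ _ _ _ sqB).flip
  have sC := sX.paste_vert sY
  set fS := Spec.map (CommRingCat.ofHom φ.toRingHom)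
  set gS := Spec.map (CommRingCat.ofHom (algebraMap R P))
  let y' := fS x'
  let x₁ := Spec.map j' x'
  let y₁ := Spec.map j y'
  let s₁ := Spec.map g₁ y₁
  have hy : Spec.map f₁ x₁ = y₁ := by
    simp only [x₁, y₁, y', ← Scheme.Hom.comp_apply, sX.w]
  have hs : Spec.map i (gS y') = s₁ := by
    simp only [s₁, y₁, ← Scheme.Hom.comp_apply, sY.w]
  have : IsNoetherianRing P₁ := by
    let := g₁.hom.toAlgebra
    have : Algebra.FiniteType R₁ P₁ := hg₁
    exact Algebra.FiniteType.isNoetherianRing R₁ P₁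
  have : IsNoetherianRing P₁' := by
    let := (g₁ ≫ f₁).hom.toAlgebra
    have : Algebra.FiniteType R₁ P₁' := hgf₁
    exact Algebra.FiniteType.isNoetherianRing R₁ P₁'
  let ψ := sm (Spec.map g₁) y₁ s₁ rfl
  let χ := sm (Spec.map f₁) x₁ y₁ hy
  let a := sm (Spec.map i) (gS y') s₁ hs
  let b := sm (Spec.map j) y' y₁ rfl
  let c := sm (Spec.map j') x' x₁ rfl
  have h₁ : (sm gS y' (gS y') rfl).comp a = b.comp ψ := by
    rw [← sm_comp gS (Spec.map i) y' (gS y') s₁ rfl hs, ← sm_comp (Spec.map j) (Spec.map g₁) y' y₁ s₁ rfl rfl]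
    exact sm_congr sY.w.symm _ _ _
  have h₂ : (sm fS x' y' rfl).comp b = c.comp χ := by
    rw [← sm_comp fS (Spec.map j) x' y' y₁ rfl rfl, ← sm_comp (Spec.map j') (Spec.map f₁) x' x₁ y₁ rfl hy]
    exact sm_congr sX.w.symm _ _ _
  have ha : (maximalIdeal _).map a ≤ maximalIdeal _ := map_maximalIdeal_le a
  have hle₁ : (maximalIdeal _).map ψ ≤ ((maximalIdeal _).map (sm gS y' (gS y') rfl)).comap b := by
    rw [← Ideal.map_le_iff_le_comap, Ideal.map_map, ← h₁, ← Ideal.map_map]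
    exact Ideal.map_mono ha
  have hle₂ : ((maximalIdeal _).map ψ).map χ ≤
      (((maximalIdeal _).map (sm gS y' (gS y') rfl)).map (sm fS x' y' rfl)).comap c := by
    rw [← Ideal.map_le_iff_le_comap, Ideal.map_map χ, Ideal.map_map, ← h₂]
    rw [← Ideal.map_map, ← Ideal.map_map]
    exact Ideal.map_mono (Ideal.map_le_iff_le_comap.2 hle₁)
  have hK := quotient_flat_of_isPullback' sY y' y₁ rfl s₁ rfl (gS y') rfl _ rfl _ rfl hle₁
  have hL := quotient_flat_of_isPullback' sC x' x₁ rfl s₁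
    (by rw [Scheme.Hom.comp_apply, hy]) (gS y') (Scheme.Hom.comp_apply _ _ _)
    (((maximalIdeal _).map ψ).map χ) (by rw [Ideal.map_map, sm_comp (Spec.map f₁) (Spec.map g₁) x₁ y₁ s₁ hy rfl])
    (((maximalIdeal _).map (sm gS y' (gS y') rfl)).map (sm fS x' y' rfl))
    (by rw [Ideal.map_map, sm_comp fS gS x' y' (gS y') rfl rfl]) hle₂
  have hffl : FFl ψ χ := ffl_descend a b c h₁ h₂ hle₁ hle₂ hK hL hFF
  have hfl : (χ.comp ψ).Flat := by
    rw [← sm_comp (Spec.map f₁) (Spec.map g₁) x₁ y₁ s₁ hy rfl, sm_flat_iff]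
    have : Flat (Spec.map f₁ ≫ Spec.map g₁) := by
      rw [← Spec.map_comp, Flat.SpecMap_iff]
      exact hflat
    exact Flat.stalkMap _ _
  obtain ⟨hψ, hχ⟩ := noetherian_criterion ψ χ hfl hffl
  rw [sm_flat_iff] at hψ hχ
  have : LocallyOfFinitePresentation (Spec.map g₁) :=
    HasRingHomProperty.Spec_iff.2 (RingHom.FinitePresentation.of_finiteType.1 hg₁)
  have hf₁ : f₁.hom.FiniteType := RingHom.FiniteType.of_comp_finiteType hgf₁
  have : LocallyOfFinitePresentation (Spec.map f₁) :=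
    HasRingHomProperty.Spec_iff.2 (RingHom.FinitePresentation.of_finiteType.1 hf₁)
  exact ⟨flat_stalk_of_isPullback sY y' hψ, flat_stalk_of_isPullback sX x' hχ⟩

end Groth.Agent.FibFlat
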