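import Mathlib
import Groth.Agent.SmallFlat.Misc
import Groth.Agent.S0392

/-!
Fibrewise flatness for local homomorphisms of local rings.
-/

universe u

open IsLocalRing TensorProduct

namespace Groth.Agent.FibFlat

theorem flat_iff_of_bijective_square {B C B' C' : Type u} [CommRing B] [CommRing C] [CommRing B'] [CommRing C']
    (f : B →+* C) (f' : B' →+* C') (b : B →+* B') (c : C →+* C') (hb : Function.Bijective b)
    (hc : Function.Bijective c) (h : f'.comp b = c.comp f) : f.Flat ↔ f'.Flat := by
  let eb := RingEquiv.ofBijective b hb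
  let ec := RingEquiv.ofBijective c hc
  constructor
  · intro hf
    have : f' = (c.comp f).comp eb.symm.toRingHom := by
      rw [← h]
      ext x
      exact congrArg f' (eb.apply_symm_apply x).symm
    rw [this]
    exact (RingHom.Flat.of_bijective eb.symm.bijective).comp (hf.comp (RingHom.Flat.of_bijective hc))
  · intro hf
    have : f = ec.symm.toRingHom.comp (f'.comp b) := by
      rw [h]
      ext x
      exact (ec.symm_apply_apply (f x)).symm
    rw [this]
    exact ((RingHom.Flat.of_bijective hb).comp hf).comp (RingHom.Flat.of_bijective ec.symm.bijective)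

/-- Change of rings along surjections whose kernels die in the quotients. -/
theorem quotientMap_flat_iff {B C B' C' : Type u} [CommRing B] [CommRing C] [CommRing B'] [CommRing C']
    (f : B →+* C) (f' : B' →+* C') (b : B →+* B') (c : C →+* C') (hb : Function.Surjective b)
    (hc : Function.Surjective c) (hcomm : f'.comp b = c.comp f)
    {I : Ideal B} {J : Ideal C} {I' : Ideal B'} {J' : Ideal C'}
    (hbI : RingHom.ker b ≤ I) (hcJ : RingHom.ker c ≤ J) (hI : I.map b = I') (hJ : J.map c = J')
    (h : I ≤ J.comap f) (h' : I' ≤ J'.comap f') :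
    (Ideal.quotientMap J f h).Flat ↔ (Ideal.quotientMap J' f' h').Flat := by
  have hbc : I'.comap b = I := by
    rw [← hI, Ideal.comap_map_of_surjective b hb, sup_eq_left]
    exact hbI
  have hcc : J'.comap c = J := by
    rw [← hJ, Ideal.comap_map_of_surjective c hc, sup_eq_left]
    exact hcJ
  refine flat_iff_of_bijective_square _ _ (Ideal.quotientMap I' b hbc.ge) (Ideal.quotientMap J' c hcc.ge)
    ⟨Ideal.quotientMap_injective' hbc.le, Ideal.quotientMap_surjective hb⟩
    ⟨Ideal.quotientMap_injective' hcc.le, Ideal.quotientMap_surjective hc⟩ ?_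
  refine Ideal.Quotient.ringHom_ext (RingHom.ext fun x => ?_)
  simp only [RingHom.comp_apply, Ideal.quotientMap_mk]
  exact congrArg _ (RingHom.congr_fun hcomm x)

/-- Comparison with a map between quotient rings given by surjections. -/
theorem quotientMap_flat_iff_of_surjective {B C B' C' : Type u} [CommRing B] [CommRing C] [CommRing B'] [CommRing C']
    (f : B →+* C) (e : B' →+* C') (π : B →+* B') (π' : C →+* C') (hπ : Function.Surjective π)
    (hπ' : Function.Surjective π') (hcomm : e.comp π = π'.comp f)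
    {I : Ideal B} {J : Ideal C} (hI : RingHom.ker π = I) (hJ : RingHom.ker π' = J) (h : I ≤ J.comap f) :
    (Ideal.quotientMap J f h).Flat ↔ e.Flat := by
  subst hI hJ
  refine flat_iff_of_bijective_square _ _ (RingHom.quotientKerEquivOfSurjective hπ).toRingHom
    (RingHom.quotientKerEquivOfSurjective hπ').toRingHom (RingEquiv.bijective _) (RingEquiv.bijective _) ?_
  refine Ideal.Quotient.ringHom_ext (RingHom.ext fun x => ?_)
  exact RingHom.congr_fun hcomm x

section FFl

variable {A B C : Type u} [CommRing A] [IsLocalRing A] [CommRing B] [CommRing C]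

/-- `C/mC` is flat over `B/mB`, `m` the maximal ideal of `A`. -/
def FFl (ψ : A →+* B) (φ : B →+* C) : Prop :=
  (Ideal.quotientMap (((maximalIdeal A).map ψ).map φ) φ Ideal.le_comap_map).Flat

theorem ffl_congr {A' B' C' : Type u} [CommRing A'] [IsLocalRing A'] [CommRing B'] [CommRing C']
    {ψ : A →+* B} {φ : B →+* C} {ψ' : A' →+* B'} {φ' : B' →+* C'}
    (a : A →+* A') (b : B →+* B') (c : C →+* C') (ha : Function.Surjective a) [IsLocalHom a]
    (hb : Function.Surjective b) (hc : Function.Surjective c)
    (h₁ : ψ'.comp a = b.comp ψ) (h₂ : φ'.comp b = c.comp φ)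
    (hbI : RingHom.ker b ≤ (maximalIdeal A).map ψ) (hcJ : RingHom.ker c ≤ ((maximalIdeal A).map ψ).map φ) :
    FFl ψ φ ↔ FFl ψ' φ' := by
  have hm : (maximalIdeal A).map a = maximalIdeal A' := map_maximalIdeal_of_surjective a ha
  refine quotientMap_flat_iff φ φ' b c hb hc h₂ hbI hcJ ?_ ?_ _ _
  · rw [Ideal.map_map, ← h₁, ← Ideal.map_map, hm]
  · rw [Ideal.map_map, ← h₂, ← Ideal.map_map]
    congr 1
    rw [Ideal.map_map, ← h₁, ← Ideal.map_map, hm]

/-- A flat map between local rings with flat map of fibres: descending fibre flatness. -/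
theorem ffl_descend [IsLocalRing B] [IsLocalRing C] {A' B' C' : Type u} [CommRing A'] [IsLocalRing A'] [CommRing B']
    [CommRing C'] [IsLocalRing B'] [IsLocalRing C']
    {ψ : A →+* B} {φ : B →+* C} {ψ' : A' →+* B'} {φ' : B' →+* C'} [IsLocalHom ψ] [IsLocalHom φ]
    [IsLocalHom ψ'] [IsLocalHom φ'] (a : A →+* A') (b : B →+* B') (c : C →+* C') [IsLocalHom a] [IsLocalHom c]
    (h₁ : ψ'.comp a = b.comp ψ) (h₂ : φ'.comp b = c.comp φ)
    (hle₁ : (maximalIdeal A).map ψ ≤ ((maximalIdeal A').map ψ').comap b)
    (hle₂ : ((maximalIdeal A).map ψ).map φ ≤ (((maximalIdeal A').map ψ').map φ').comap c)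
    (hK : (Ideal.quotientMap ((maximalIdeal A').map ψ') b hle₁).Flat)
    (hL : (Ideal.quotientMap (((maximalIdeal A').map ψ').map φ') c hle₂).Flat)
    (hf : FFl ψ' φ') : FFl ψ φ := by
  set K := B ⧸ (maximalIdeal A).map ψ
  set L := C ⧸ ((maximalIdeal A).map ψ).map φ
  set L' := C' ⧸ ((maximalIdeal A').map ψ').map φ'
  let i : K →+* L := Ideal.quotientMap _ φ Ideal.le_comap_map
  let j : L →+* L' := Ideal.quotientMap _ c hle₂
  let k : K →+* L' := (Ideal.quotientMap _ φ' Ideal.le_comap_map).comp (Ideal.quotientMap _ b hle₁)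
  have hk : k = j.comp i := by
    refine Ideal.Quotient.ringHom_ext (RingHom.ext fun x => ?_)
    simp only [k, j, i, RingHom.comp_apply, Ideal.quotientMap_mk]
    exact congrArg _ (RingHom.congr_fun h₂ x)
  have hkflat : k.Flat := hK.comp hf
  have hne : ((maximalIdeal A).map ψ).map φ ≤ maximalIdeal C :=
    (Ideal.map_mono (map_maximalIdeal_le ψ)).trans (map_maximalIdeal_le φ)
  have hne' : ((maximalIdeal A').map ψ').map φ' ≤ maximalIdeal C' :=
    (Ideal.map_mono (map_maximalIdeal_le ψ')).trans (map_maximalIdeal_le φ')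
  have : Nontrivial L :=
    Ideal.Quotient.nontrivial_iff.2 fun h => (maximalIdeal.isMaximal C).ne_top (top_le_iff.1 (h ▸ hne))
  have : Nontrivial L' :=
    Ideal.Quotient.nontrivial_iff.2 fun h => (maximalIdeal.isMaximal C').ne_top (top_le_iff.1 (h ▸ hne'))
  have : IsLocalRing L := .of_surjective' _ Ideal.Quotient.mk_surjective
  have : IsLocalRing L' := .of_surjective' _ Ideal.Quotient.mk_surjective
  let := i.toAlgebra
  let := j.toAlgebra
  let := k.toAlgebra
  have : IsScalarTower K L L' := IsScalarTower.of_algebraMap_eq fun x => RingHom.congr_fun hk x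
  have : Module.Flat L L' := hL
  have : IsLocalHom (algebraMap L L') := by
    have h3 : IsLocalHom (Ideal.Quotient.mk (((maximalIdeal A').map ψ').map φ')) :=
      IsLocalHom.of_surjective _ Ideal.Quotient.mk_surjective
    constructor
    intro x hx
    obtain ⟨x, rfl⟩ := Ideal.Quotient.mk_surjective x
    rw [RingHom.algebraMap_toAlgebra] at hx
    have hx' : IsUnit (Ideal.Quotient.mk (((maximalIdeal A').map ψ').map φ') (c x)) := hx
    exact ((isUnit_of_map_unit c x (isUnit_of_map_unit _ (c x) hx'))).map _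
  have : Module.FaithfullyFlat L L' := Module.FaithfullyFlat.of_flat_of_isLocalHom
  have : Module.Flat K L' := hkflat
  exact SmallFlat.flat_of_faithfullyFlat_tower K L L'

/-- The fibre criterion over Noetherian local rings. -/
theorem noetherian_criterion [IsLocalRing B] [IsLocalRing C] [IsNoetherianRing A] [IsNoetherianRing B]
    [IsNoetherianRing C] (ψ : A →+* B) (φ : B →+* C) [IsLocalHom ψ] [IsLocalHom φ]
    (hflat : (φ.comp ψ).Flat) (hf : FFl ψ φ) : ψ.Flat ∧ φ.Flat := by
  let := ψ.toAlgebra
  let := φ.toAlgebra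
  let := (φ.comp ψ).toAlgebra
  have : IsScalarTower A B C := IsScalarTower.of_algebraMap_eq fun _ => rfl
  have : IsLocalHom (algebraMap A B) := ‹IsLocalHom ψ›
  have : IsLocalHom (algebraMap B C) := ‹IsLocalHom φ›
  have : Module.Flat A C := hflat
  set I := (maximalIdeal A).map (algebraMap A B)
  let e : (B ⧸ I) ⊗[B] C ≃ₐ[B] C ⧸ I.map (algebraMap B C) :=
    (Algebra.TensorProduct.comm B _ _).trans
      ((Algebra.TensorProduct.quotIdealMapEquivTensorQuot C I).symm.restrictScalars B)
  have hq : (Ideal.quotientMap (I.map (algebraMap B C)) (algebraMap B C) Ideal.le_comap_map).Flat := hf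
  have h2 : Algebra.TensorProduct.includeLeftRingHom =
      (e.symm.toRingEquiv.toRingHom).comp (Ideal.quotientMap (I.map (algebraMap B C)) (algebraMap B C) Ideal.le_comap_map) := by
    refine Ideal.Quotient.ringHom_ext (RingHom.ext fun x => ?_)
    simp only [RingHom.comp_apply, Ideal.quotientMap_mk]
    exact (e.symm.commutes x).symm
  have h3 : (Algebra.TensorProduct.includeLeftRingHom : B ⧸ I →+* (B ⧸ I) ⊗[B] C).Flat := by
    rw [h2]
    exact hq.comp (RingHom.Flat.of_bijective e.symm.bijective)
  have h4 : Module.Flat (B ⧸ I) ((B ⧸ I) ⊗[B] C) :=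
    RingHom.flat_algebraMap_iff.1 h3
  exact Groth.Agent.S0392.result (R := A) (S := B) (S' := C) (M := C) h4

end FFl

end Groth.Agent.FibFlat
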